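import Cfsg.Agent.Spor.Rud.D0

set_option autoImplicit false
set_option maxRecDepth 100000000
set_option Elab.async false

namespace Cfsg.Agent.Spor.Rud

theorem ok0 : Net.okb 3 n0 = true := by decide +kernel

theorem ok1 : Net.okb 3 n1 = true := by decide +kernel

theorem ok2 : Net.okb 3 n2 = true := by decide +kernel

theorem ok3 : Net.okb 3 n3 = true := by decide +kernel

theorem ok4 : Net.okb 3 n4 = true := by decide +kernel

theorem rel0 : T.rel 3 [7, 2, 1] 0 3 = true := by decide +kernel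

theorem rel1 : T.rel 3 [9, 1, 2] 0 3 = true := by decide +kernel

theorem rel2 : T.rel 3 [9, 9, 9, 9] 0 3 = true := by decide +kernel

theorem rel3 : T.rel 3 [3, 7, 6, 9, 8, 10] 0 3 = true := by decide +kernel

theorem rel4 : T.rel 3 [7, 7, 9, 8, 8, 10] 0 3 = true := by decide +kernel

theorem rel5 : T.rel 3 [7, 3, 7, 7, 6, 7] 0 3 = true := by decide +kernel

theorem rel6 : T.rel 3 [3, 3, 7, 10, 7, 9] 0 3 = true := by decide +kernel

theorem rel7 : T.rel 3 [3, 3, 3, 3] 0 3 = true := by decide +kernel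

theorem rel8 : T.rel 3 [3, 3, 9, 3, 9, 9, 3, 9] 0 3 = true := by decide +kernel

theorem rel9 : T.rel 3 [3, 9, 3, 9, 3, 9, 3, 9] 0 3 = true := by decide +kernel

theorem rel10 : T.rel 3 [1, 1, 1, 5, 8] 0 3 = true := by decide +kernel

theorem rel11 : T.rel 3 [1, 3, 4, 7, 6, 10] 0 3 = true := by decide +kernel

theorem rel12 : T.rel 3 [1, 1, 3, 2, 4, 10, 8, 10, 6] 0 3 = true := by decide +kernel

theorem rel13 : T.rel 3 [1, 5, 5, 5, 9] 0 3 = true := by decide +kernel

theorem hcov : T.treeCov (ones 8) L 1 = true := by decide +kernel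

theorem hg : lall (fun z => band (memL L z) (band (sub (ones 8) (T.let z).cl) (T.closed (ones 8) z))) gs = true := by decide +kernel

theorem rot1_1 : T.rot 1 [7, 2] (sel (ones 8) ip1 1) = true := by decide +kernel

theorem rot1_1r : band (Rule.ok (2 * 0) EX RL ⟨1 :: [7, 2], [], 12, false⟩) (lall (memL L) [7, 2]) = true := by decide +kernel

theorem rot1_2 : T.rot 1 [2, 9] (sel (ones 8) ip1 2) = true := by decide +kernel

theorem rot1_2r : band (Rule.ok (2 * 0) EX RL ⟨1 :: [2, 9], [], 12, false⟩) (lall (memL L) [2, 9]) = true := by decide +kernel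

theorem rot1_3 : T.rot 1 [5, 8, 1, 1] (sel (ones 8) ip1 3) = true := by decide +kernel

theorem rot1_3r : band (Rule.ok (2 * 0) EX RL ⟨1 :: [5, 8, 1, 1], [], 8, true⟩) (lall (memL L) [5, 8, 1, 1]) = true := by decide +kernel

theorem rot1_4 : T.rot 1 [6, 4, 9, 3, 8] (sel (ones 8) ip1 4) = true := by decide +kernel

theorem rot1_4r : band (Rule.ok (2 * 0) EX RL ⟨1 :: [6, 4, 9, 3, 8], [1, 5, 0], 9, false⟩) (lall (memL L) [6, 4, 9, 3, 8]) = true := by decide +kernel

theorem cov1 : T.cover 1 [(sel (ones 8) ip1 1), (sel (ones 8) ip1 2), (sel (ones 8) ip1 3), (sel (ones 8) ip1 4)] = true := by decide +kernel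

theorem tl1 : T.treeLt 3 1 = true := by decide +kernel

theorem rot2_1 : T.rot 2 [5] (sel (ones 8) ip2 1) = true := by decide +kernel

theorem rot2_1r : band (Rule.ok (2 * 0) EX RL ⟨2 :: [5], [], 12, false⟩) (lall (memL L) [5]) = true := by decide +kernel

theorem rot2_2 : T.rot 2 [1, 7] (sel (ones 8) ip2 2) = true := by decide +kernel

theorem rot2_2r : band (Rule.ok (2 * 0) EX RL ⟨2 :: [1, 7], [], 12, false⟩) (lall (memL L) [1, 7]) = true := by decide +kernel

theorem rot2_3 : T.rot 2 [9, 1] (sel (ones 8) ip2 3) = true := by decide +kernel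

theorem rot2_3r : band (Rule.ok (2 * 0) EX RL ⟨2 :: [9, 1], [], 12, false⟩) (lall (memL L) [9, 1]) = true := by decide +kernel

theorem rot2_4 : T.rot 2 [4, 4, 4, 7] (sel (ones 8) ip2 4) = true := by decide +kernel

theorem rot2_4r : band (Rule.ok (2 * 0) EX RL ⟨2 :: [4, 4, 4, 7], [2], 8, false⟩) (lall (memL L) [4, 4, 4, 7]) = true := by decide +kernel

theorem rot2_5 : T.rot 2 [2, 4, 10, 2] (sel (ones 8) ip2 5) = true := by decide +kernel

theorem rot2_5r : band (Rule.ok (2 * 0) EX RL ⟨2 :: [2, 4, 10, 2], [1], 11, false⟩) (lall (memL L) [2, 4, 10, 2]) = true := by decide +kernel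

theorem cov2 : T.cover 2 [(sel (ones 8) ip2 1), (sel (ones 8) ip2 2), (sel (ones 8) ip2 3), (sel (ones 8) ip2 4), (sel (ones 8) ip2 5)] = true := by decide +kernel

theorem tl2 : T.treeLt 3 2 = true := by decide +kernel

theorem rot3_1 : T.rot 3 [4, 7, 6, 10, 1] (sel (ones 8) ip3 1) = true := by decide +kernel

theorem rot3_1r : band (Rule.ok (2 * 0) EX RL ⟨3 :: [4, 7, 6, 10, 1], [1], 9, true⟩) (lall (memL L) [4, 7, 6, 10, 1]) = true := by decide +kernel

theorem rot3_2 : T.rot 3 [8, 1, 6, 4, 9] (sel (ones 8) ip3 2) = true := by decide +kernel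

theorem rot3_2r : band (Rule.ok (2 * 0) EX RL ⟨3 :: [8, 1, 6, 4, 9], [2, 0], 9, false⟩) (lall (memL L) [8, 1, 6, 4, 9]) = true := by decide +kernel

theorem rot3_3 : T.rot 3 [2, 4, 10, 8, 10, 6, 1, 1] (sel (ones 8) ip3 3) = true := by decide +kernel

theorem rot3_3r : band (Rule.ok (2 * 0) EX RL ⟨3 :: [2, 4, 10, 8, 10, 6, 1, 1], [1, 1], 10, true⟩) (lall (memL L) [2, 4, 10, 8, 10, 6, 1, 1]) = true := by decide +kernel

theorem cov3 : T.cover 3 [(sel (ones 8) ip3 1), (sel (ones 8) ip3 2), (sel (ones 8) ip3 3), 1] = true := by decide +kernel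

theorem tl3 : T.treeLt 3 3 = true := by decide +kernel

theorem rot4_1 : T.rot 4 [1] (sel (ones 8) ip4 1) = true := by decide +kernel

theorem rot4_1r : band (Rule.ok (2 * 0) EX RL ⟨4 :: [1], [], 12, false⟩) (lall (memL L) [1]) = true := by decide +kernel

theorem rot4_2 : T.rot 4 [5, 8] (sel (ones 8) ip4 2) = true := by decide +kernel

theorem rot4_2r : band (Rule.ok (2 * 0) EX RL ⟨4 :: [5, 8], [], 12, false⟩) (lall (memL L) [5, 8]) = true := by decide +kernel

theorem rot4_3 : T.rot 4 [10, 5] (sel (ones 8) ip4 3) = true := by decide +kernel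

theorem rot4_3r : band (Rule.ok (2 * 0) EX RL ⟨4 :: [10, 5], [], 12, false⟩) (lall (memL L) [10, 5]) = true := by decide +kernel

theorem rot4_4 : T.rot 4 [4, 4, 7, 2] (sel (ones 8) ip4 4) = true := by decide +kernel

theorem rot4_4r : band (Rule.ok (2 * 0) EX RL ⟨4 :: [4, 4, 7, 2], [], 8, false⟩) (lall (memL L) [4, 4, 7, 2]) = true := by decide +kernel

theorem rot4_5 : T.rot 4 [7, 6, 10, 1, 3] (sel (ones 8) ip4 5) = true := by decide +kernel

theorem rot4_5r : band (Rule.ok (2 * 0) EX RL ⟨4 :: [7, 6, 10, 1, 3], [1, 5], 9, true⟩) (lall (memL L) [7, 6, 10, 1, 3]) = true := by decide +kernel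

theorem cov4 : T.cover 4 [(sel (ones 8) ip4 1), (sel (ones 8) ip4 2), (sel (ones 8) ip4 3), (sel (ones 8) ip4 4), (sel (ones 8) ip4 5)] = true := by decide +kernel

theorem tl4 : Nat.beq (T.let 4).tt 0 = true := by decide +kernel

theorem rot5_1 : T.rot 5 [2] (sel (ones 8) ip5 1) = true := by decide +kernel

theorem rot5_1r : band (Rule.ok (2 * 0) EX RL ⟨5 :: [2], [], 12, false⟩) (lall (memL L) [2]) = true := by decide +kernel

theorem rot5_2 : T.rot 5 [8, 4] (sel (ones 8) ip5 2) = true := by decide +kernel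

theorem rot5_2r : band (Rule.ok (2 * 0) EX RL ⟨5 :: [8, 4], [], 12, false⟩) (lall (memL L) [8, 4]) = true := by decide +kernel

theorem rot5_3 : T.rot 5 [4, 10] (sel (ones 8) ip5 3) = true := by decide +kernel

theorem rot5_3r : band (Rule.ok (2 * 0) EX RL ⟨5 :: [4, 10], [], 12, false⟩) (lall (memL L) [4, 10]) = true := by decide +kernel

theorem rot5_4 : T.rot 5 [8, 1, 1, 1] (sel (ones 8) ip5 4) = true := by decide +kernel

theorem rot5_4r : band (Rule.ok (2 * 0) EX RL ⟨5 :: [8, 1, 1, 1], [], 8, true⟩) (lall (memL L) [8, 1, 1, 1]) = true := by decide +kernel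

theorem rot5_5 : T.rot 5 [5, 5, 9, 1] (sel (ones 8) ip5 5) = true := by decide +kernel

theorem rot5_5r : band (Rule.ok (2 * 0) EX RL ⟨5 :: [5, 5, 9, 1], [1], 11, true⟩) (lall (memL L) [5, 5, 9, 1]) = true := by decide +kernel

theorem rot5_6 : T.rot 5 [5, 9, 1, 5] (sel (ones 8) ip5 6) = true := by decide +kernel

theorem rot5_6r : band (Rule.ok (2 * 0) EX RL ⟨5 :: [5, 9, 1, 5], [1], 11, true⟩) (lall (memL L) [5, 9, 1, 5]) = true := by decide +kernel

theorem cov5 : T.cover 5 [(sel (ones 8) ip5 1), (sel (ones 8) ip5 2), (sel (ones 8) ip5 3), (sel (ones 8) ip5 4), (sel (ones 8) ip5 5), (sel (ones 8) ip5 6)] = true := by decide +kernel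

theorem tl5 : T.treeLt 3 5 = true := by decide +kernel

theorem rot6_1 : T.rot 6 [3] (sel (ones 8) ip6 1) = true := by decide +kernel

theorem rot6_1r : band (Rule.ok (2 * 0) EX RL ⟨6 :: [3], [], 12, false⟩) (lall (memL L) [3]) = true := by decide +kernel

theorem rot6_2 : T.rot 6 [10, 1, 3, 4, 7] (sel (ones 8) ip6 2) = true := by decide +kernel

theorem rot6_2r : band (Rule.ok (2 * 0) EX RL ⟨6 :: [10, 1, 3, 4, 7], [2, 0, 5], 9, true⟩) (lall (memL L) [10, 1, 3, 4, 7]) = true := by decide +kernel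

theorem rot6_3 : T.rot 6 [4, 9, 3, 8, 1] (sel (ones 8) ip6 3) = true := by decide +kernel

theorem rot6_3r : band (Rule.ok (2 * 0) EX RL ⟨6 :: [4, 9, 3, 8, 1], [1, 5], 9, false⟩) (lall (memL L) [4, 9, 3, 8, 1]) = true := by decide +kernel

theorem rot6_4 : T.rot 6 [4, 4, 3, 9, 7, 9, 1, 5] (sel (ones 8) ip6 4) = true := by decide +kernel

theorem rot6_4r : band (Rule.ok (2 * 0) EX RL ⟨6 :: [4, 4, 3, 9, 7, 9, 1, 5], [1, 1, 5], 10, false⟩) (lall (memL L) [4, 4, 3, 9, 7, 9, 1, 5]) = true := by decide +kernel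

theorem cov6 : T.cover 6 [(sel (ones 8) ip6 1), (sel (ones 8) ip6 2), (sel (ones 8) ip6 3), (sel (ones 8) ip6 4)] = true := by decide +kernel

theorem tl6 : Nat.beq (T.let 6).tt 0 = true := by decide +kernel

theorem rot7_1 : T.rot 7 [2, 1] (sel (ones 8) ip7 1) = true := by decide +kernel

theorem rot7_1r : band (Rule.ok (2 * 0) EX RL ⟨7 :: [2, 1], [], 12, false⟩) (lall (memL L) [2, 1]) = true := by decide +kernel

theorem rot7_2 : T.rot 7 [9, 3, 3, 7, 10] (sel (ones 8) ip7 2) = true := by decide +kernel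

theorem rot7_2r : band (Rule.ok (2 * 0) EX RL ⟨7 :: [9, 3, 3, 7, 10], [1, 3, 3, 1], 4, true⟩) (lall (memL L) [9, 3, 3, 7, 10]) = true := by decide +kernel

theorem rot7_3 : T.rot 7 [6, 10, 1, 3, 4] (sel (ones 8) ip7 3) = true := by decide +kernel

theorem rot7_3r : band (Rule.ok (2 * 0) EX RL ⟨7 :: [6, 10, 1, 3, 4], [1, 5, 0], 9, true⟩) (lall (memL L) [6, 10, 1, 3, 4]) = true := by decide +kernel

theorem cov7 : T.cover 7 [(sel (ones 8) ip7 1), (sel (ones 8) ip7 2), (sel (ones 8) ip7 3), 1] = true := by decide +kernel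

theorem tl7 : Nat.beq (T.let 7).tt 0 = true := by decide +kernel

theorem rot8_1 : T.rot 8 [7] (sel (ones 8) ip8 1) = true := by decide +kernel

theorem rot8_1r : band (Rule.ok (2 * 0) EX RL ⟨8 :: [7], [], 12, false⟩) (lall (memL L) [7]) = true := by decide +kernel

theorem rot8_2 : T.rot 8 [4, 5] (sel (ones 8) ip8 2) = true := by decide +kernel

theorem rot8_2r : band (Rule.ok (2 * 0) EX RL ⟨8 :: [4, 5], [], 12, false⟩) (lall (memL L) [4, 5]) = true := by decide +kernel

theorem rot8_3 : T.rot 8 [9, 8, 6, 6, 10] (sel (ones 8) ip8 3) = true := by decide +kernel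

theorem rot8_3r : band (Rule.ok (2 * 0) EX RL ⟨8 :: [9, 8, 6, 6, 10], [1, 3], 4, false⟩) (lall (memL L) [9, 8, 6, 6, 10]) = true := by decide +kernel

theorem rot8_4 : T.rot 8 [1, 6, 4, 9, 3] (sel (ones 8) ip8 4) = true := by decide +kernel

theorem rot8_4r : band (Rule.ok (2 * 0) EX RL ⟨8 :: [1, 6, 4, 9, 3], [2, 0, 5], 9, false⟩) (lall (memL L) [1, 6, 4, 9, 3]) = true := by decide +kernel

theorem cov8 : T.cover 8 [(sel (ones 8) ip8 1), (sel (ones 8) ip8 2), (sel (ones 8) ip8 3), (sel (ones 8) ip8 4)] = true := by decide +kernel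

theorem tl8 : Nat.beq (T.let 8).tt 0 = true := by decide +kernel

theorem rot9_1 : T.rot 9 [1, 2] (sel (ones 8) ip9 1) = true := by decide +kernel

theorem rot9_1r : band (Rule.ok (2 * 0) EX RL ⟨9 :: [1, 2], [], 12, false⟩) (lall (memL L) [1, 2]) = true := by decide +kernel

theorem rot9_2 : T.rot 9 [1, 5, 5, 5] (sel (ones 8) ip9 2) = true := by decide +kernel

theorem rot9_2r : band (Rule.ok (2 * 0) EX RL ⟨9 :: [1, 5, 5, 5], [1], 11, true⟩) (lall (memL L) [1, 5, 5, 5]) = true := by decide +kernel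

theorem rot9_3 : T.rot 9 [8, 10, 3, 7, 6] (sel (ones 8) ip9 3) = true := by decide +kernel

theorem rot9_3r : band (Rule.ok (2 * 0) EX RL ⟨9 :: [8, 10, 3, 7, 6], [5, 0, 2, 4], 1, true⟩) (lall (memL L) [8, 10, 3, 7, 6]) = true := by decide +kernel

theorem rot9_4 : T.rot 9 [3, 3, 7, 10, 7] (sel (ones 8) ip9 4) = true := by decide +kernel

theorem rot9_4r : band (Rule.ok (2 * 0) EX RL ⟨9 :: [3, 3, 7, 10, 7], [1, 3], 4, true⟩) (lall (memL L) [3, 3, 7, 10, 7]) = true := by decide +kernel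

theorem rot9_5 : T.rot 9 [7, 9, 1, 5, 6, 4, 4, 3] (sel (ones 8) ip9 5) = true := by decide +kernel

theorem rot9_5r : band (Rule.ok (2 * 0) EX RL ⟨9 :: [7, 9, 1, 5, 6, 4, 4, 3], [5], 10, false⟩) (lall (memL L) [7, 9, 1, 5, 6, 4, 4, 3]) = true := by decide +kernel

theorem cov9 : T.cover 9 [(sel (ones 8) ip9 1), (sel (ones 8) ip9 2), (sel (ones 8) ip9 3), (sel (ones 8) ip9 4), (sel (ones 8) ip9 5), 1] = true := by decide +kernel

theorem tl9 : Nat.beq (T.let 9).tt 0 = true := by decide +kernel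

theorem rot10_1 : T.rot 10 [5, 4] (sel (ones 8) ip10 1) = true := by decide +kernel

theorem rot10_1r : band (Rule.ok (2 * 0) EX RL ⟨10 :: [5, 4], [], 12, false⟩) (lall (memL L) [5, 4]) = true := by decide +kernel

theorem rot10_2 : T.rot 10 [2, 2, 2, 4] (sel (ones 8) ip10 2) = true := by decide +kernel

theorem rot10_2r : band (Rule.ok (2 * 0) EX RL ⟨10 :: [2, 2, 2, 4], [], 11, false⟩) (lall (memL L) [2, 2, 2, 4]) = true := by decide +kernel

theorem rot10_3 : T.rot 10 [7, 9, 3, 3, 7] (sel (ones 8) ip10 3) = true := by decide +kernel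

theorem rot10_3r : band (Rule.ok (2 * 0) EX RL ⟨10 :: [7, 9, 3, 3, 7], [5, 5, 0, 2], 4, true⟩) (lall (memL L) [7, 9, 3, 3, 7]) = true := by decide +kernel

theorem rot10_4 : T.rot 10 [6, 1, 1, 3, 2, 4, 10, 8] (sel (ones 8) ip10 4) = true := by decide +kernel

theorem rot10_4r : band (Rule.ok (2 * 0) EX RL ⟨10 :: [6, 1, 1, 3, 2, 4, 10, 8], [5, 2, 0], 10, true⟩) (lall (memL L) [6, 1, 1, 3, 2, 4, 10, 8]) = true := by decide +kernel

theorem cov10 : T.cover 10 [(sel (ones 8) ip10 1), (sel (ones 8) ip10 2), (sel (ones 8) ip10 3), (sel (ones 8) ip10 4)] = true := by decide +kernel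

theorem tl10 : Nat.beq (T.let 10).tt 0 = true := by decide +kernel

end Cfsg.Agent.Spor.Rud
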