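import Cfsg.Agent.Spor.Chk

set_option autoImplicit false
set_option maxRecDepth 100000000
set_option Elab.async false
noncomputable section

namespace Cfsg.Agent.Spor.Rud

def m0_0 : Nat := nat_lit 0x22
def m0_1 : Nat := nat_lit 0x44
def m0_2 : Nat := nat_lit 0x11
def n0 : Net := Net.cons 2 m0_0 (Net.cons 1 m0_1 (Net.cons 2 m0_2 (Net.nil)))

def m1_0 : Nat := nat_lit 0x5
def m1_1 : Nat := nat_lit 0x22
def m1_2 : Nat := nat_lit 0x14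
def m1_3 : Nat := nat_lit 0x11
def m1_4 : Nat := nat_lit 0x3
def n1 : Net := Net.cons 4 m1_0 (Net.cons 2 m1_1 (Net.cons 1 m1_2 (Net.cons 2 m1_3 (Net.cons 4 m1_4 (Net.nil)))))

def m2_0 : Nat := nat_lit 0x3
def m2_1 : Nat := nat_lit 0x3
def m2_2 : Nat := nat_lit 0x5
def m2_3 : Nat := nat_lit 0x3
def n2 : Net := Net.cons 4 m2_0 (Net.cons 2 m2_1 (Net.cons 1 m2_2 (Net.cons 4 m2_3 (Net.nil))))

def m3_0 : Nat := nat_lit 0x3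
def m3_1 : Nat := nat_lit 0x3
def m3_2 : Nat := nat_lit 0x5
def m3_3 : Nat := nat_lit 0x3
def n3 : Net := Net.cons 4 m3_0 (Net.cons 2 m3_1 (Net.cons 1 m3_2 (Net.cons 4 m3_3 (Net.nil))))

def m4_0 : Nat := nat_lit 0x3
def m4_1 : Nat := nat_lit 0x11
def m4_2 : Nat := nat_lit 0x14
def m4_3 : Nat := nat_lit 0x11
def m4_4 : Nat := nat_lit 0x3
def n4 : Net := Net.cons 4 m4_0 (Net.cons 2 m4_1 (Net.cons 1 m4_2 (Net.cons 2 m4_3 (Net.cons 4 m4_4 (Net.nil)))))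

def ip1 : List Nat := [0x8c, 0xc8, 0x10]
def l1 : Let := ⟨0, false, 0xff, 0x8a, [0x14, 0xc8, 0x40, 0x90]⟩

def ip2 : List Nat := [0x96, 0x22, 0xc4]
def l2 : Let := ⟨1, false, 0xff, 0x44, [0xb2, 0xc4, 0x20, 0xc0]⟩

def ip3 : List Nat := [0xba, 0x48]
def l3 : Let := ⟨2, false, 0xff, 0x20, [0x50, 0x7a, 0xd0, 0xa0]⟩

def ip4 : List Nat := [0xba, 0x11, 0x64]
def l4 : Let := ⟨0, true, 0xff, 0x0, [0xba, 0x55, 0x10, 0x60]⟩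

def ip5 : List Nat := [0x65, 0x19, 0xb0]
def l5 : Let := ⟨1, true, 0xff, 0x10, [0x64, 0xb1, 0x8, 0xa0]⟩

def ip6 : List Nat := [0xaf, 0xce, 0x10]
def l6 : Let := ⟨2, true, 0xff, 0x0, [0x21, 0x16, 0x80, 0xcc]⟩

def ip7 : List Nat := [0x3e, 0x44]
def l7 : Let := ⟨3, false, 0x7f, 0x0, [0x50, 0x7a, 0x14, 0x20]⟩

def ip8 : List Nat := [0x41, 0x5e, 0x20]
def l8 : Let := ⟨3, true, 0x7f, 0x0, [0x23, 0x36, 0x40, 0xc]⟩

def ip9 : List Nat := [0x66, 0x30, 0xa]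
def l9 : Let := ⟨4, false, 0x7f, 0x0, [0x72, 0x34, 0x2, 0x28]⟩

def ip10 : List Nat := [0x3b, 0x35, 0x40]
def l10 : Let := ⟨4, true, 0x7f, 0x0, [0x2d, 0x6e, 0x40, 0x30]⟩

def NT : List Net := [n0, n1, n2, n3, n4]
def LT : List Let := [⟨0, false, 0, 0, []⟩, l1, l2, l3, l4, l5, l6, l7, l8, l9, l10]
def T : Tab := ⟨NT, LT⟩
def EX : List (List Nat) := [[], [0], [2], [4], [1], [3], [5], [3, 1], [0, 2], [1, 3], [2, 0]]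
def RL : List (List Nat) := [[1, 3, 1, 3, 1, 3, 1, 3], [2, 0, 0, 2, 1, 3, 5, 3, 1, 4], [2, 0, 0, 2, 0, 2, 1, 3, 3, 1, 3, 1], [3, 1, 5, 3, 1, 3, 1, 4, 3, 1], [1, 3, 3, 1, 2, 0, 3, 1, 4, 4], [4, 4, 4, 4], [1, 3, 4, 1, 3, 1, 3, 4, 1, 3, 4, 4], [1, 3, 4, 1, 3, 4, 1, 3, 4, 1, 3, 4], [0, 0, 0, 0], [2, 0, 5, 3, 1, 1, 4, 0], [5, 2, 0, 0, 2, 2, 2, 4, 0, 0], [1, 3, 3, 3, 3, 0]]
def XL : List (List Nat) := []
def BW : List (List Nat) := [[4], [3, 1], [1, 3]]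
def IV : Nat := 0x90a070803020106050400
def L : List Nat := [1, 2, 3, 4, 5, 6, 7, 8, 9, 10]
def gs : List Nat := [1, 2, 3]
def base : List Nat := [3, 7, 9]

end Cfsg.Agent.Spor.Rud
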